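import Mathlib
import Cfsg.Agent.Lib.ZStar.Final

/-!
# A coprime automorphism fixing the centralizer of an involution

If an automorphism `β` of prime order, not dividing `|G|`, fixes `C_G(τ)` elementwise, then a
count of pairs of conjugates of `τ` in the cosets of `D = C_G(β)` shows that every conjugate of
a product of two conjugates of `τ` in `D` lies in `D`.  In a simple group `τ` is then isolated,
and Glauberman's Z*-theorem applies.
-/

set_option autoImplicit false

namespace Cfsg.Agent.Lib.CoprimeFix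

open Subgroup

universe u

variable {G : Type u} [Group G]

/-- The fixed subgroup of an automorphism. -/
def fixSub (β : MulAut G) : Subgroup G := (β.toMonoidHom).eqLocus (MonoidHom.id G)

theorem mem_fixSub {β : MulAut G} {x : G} : x ∈ fixSub β ↔ β x = x := Iff.rfl

theorem pow_apply (β : MulAut G) (n : ℕ) (x : G) : (β ^ n) x = (⇑β)^[n] x := by
  induction n generalizing x with
  | zero => simp
  | succ n ih => rw [pow_succ, MulAut.mul_apply, ih, Function.iterate_succ_apply]

theorem exists_fixed {r : ℕ} [Fact r.Prime] {X : Type*} [Finite X] (f : X → X)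
    (hiter : ∀ x, f^[r] x = x) (hX : ¬ r ∣ Nat.card X) : ∃ x, f x = x := by
  have hinj : Function.Injective f := fun a b h => by
    obtain ⟨k, hk⟩ : ∃ k, r = k + 1 := Nat.exists_eq_succ_of_ne_zero (Fact.out : r.Prime).ne_zero
    rw [← hiter a, ← hiter b, hk, Function.iterate_succ_apply, Function.iterate_succ_apply, h]
  set e : Equiv.Perm X := Equiv.ofBijective f (Finite.injective_iff_bijective.1 hinj) with he
  have her : e ^ r = 1 := Equiv.ext fun x => by
    rw [Equiv.Perm.coe_pow]
    exact hiter x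
  have hp : IsPGroup r (zpowers e) := by
    rintro ⟨g, k, rfl⟩
    refine ⟨1, Subtype.ext ?_⟩
    show (e ^ k) ^ (r ^ 1) = 1
    rw [pow_one, ← zpow_natCast, ← zpow_mul, mul_comm, zpow_mul, zpow_natCast, her, one_zpow]
  obtain ⟨x, hx⟩ := hp.nonempty_fixed_point_of_prime_not_dvd_card X hX
  exact ⟨x, hx ⟨e, mem_zpowers e⟩⟩

theorem eq_one_of_shift [Finite G] {β : MulAut G} {r : ℕ} (hβ : β ^ r = 1)
    (hr : r.Coprime (Nat.card G)) {g c : G} (hc : c ∈ fixSub β) (h : β g = g * c) : c = 1 := by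
  have hn : ∀ n : ℕ, (β ^ n) g = g * c ^ n := by
    intro n
    induction n with
    | zero => simp
    | succ n ih =>
      rw [pow_succ', MulAut.mul_apply, ih, map_mul, map_pow, h, mem_fixSub.1 hc, mul_assoc,
        pow_succ']
  have h1 := hn r
  rw [hβ, MulAut.one_apply, left_eq_mul] at h1
  exact orderOf_eq_one_iff.1 (Nat.eq_one_of_dvd_coprimes hr (orderOf_dvd_of_pow_eq_one h1)
    (orderOf_dvd_natCard c))

/-- An invariant subgroup has an invariant Sylow subgroup. -/
theorem exists_invariant_sylow [Finite G] {β : MulAut G} {r : ℕ} [Fact r.Prime] (hβ : β ^ r = 1)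
    (hr : r.Coprime (Nat.card G)) (Y : Subgroup G) (hY : ∀ y ∈ Y, β y ∈ Y) :
    ∃ P : Sylow 2 Y, ∀ y : Y, y ∈ (P : Subgroup Y) →
      (⟨β (y : G), hY y y.2⟩ : Y) ∈ (P : Subgroup Y) := by
  haveI : Fact (Nat.Prime 2) := ⟨Nat.prime_two⟩
  let γ : Y →* Y := (β.toMonoidHom.comp Y.subtype).codRestrict Y fun y => hY y y.2
  have hγ : Function.Surjective γ := Finite.injective_iff_surjective.1 fun a b h =>
    Subtype.ext (β.injective (congrArg Subtype.val h :))
  have hco : ∀ n (y : Y), (((⇑γ)^[n] y : Y) : G) = (⇑β)^[n] (y : G) := by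
    intro n
    induction n with
    | zero => exact fun _ => rfl
    | succ n ih =>
      intro y
      rw [Function.iterate_succ_apply', Function.iterate_succ_apply', ← ih]
      rfl
  obtain ⟨P, hP⟩ := exists_fixed (r := r) (fun P : Sylow 2 Y => P.mapSurjective hγ)
    (fun P => by
      refine Sylow.ext ?_
      have hcoe : ∀ n, (((fun Q : Sylow 2 Y => Q.mapSurjective hγ)^[n] P : Sylow 2 Y) : Set Y) =
          (⇑γ)^[n] '' ((P : Subgroup Y) : Set Y) := by
        intro n
        induction n with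
        | zero => simp
        | succ n ih =>
          rw [Function.iterate_succ_apply', Function.iterate_succ', Set.image_comp, ← ih]
          rfl
      refine SetLike.coe_injective ((hcoe r).trans ?_)
      have : ∀ y : Y, (⇑γ)^[r] y = y := fun y => Subtype.ext (by
        rw [hco, ← pow_apply, hβ]; rfl)
      rw [funext this, Set.image_id'])
    (fun hd => (Nat.Prime.coprime_iff_not_dvd Fact.out).1 hr
      (hd.trans (((default : Sylow 2 Y).card_dvd_index.trans (index_dvd_card _)).trans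
        (card_subgroup_dvd_card Y))))
  refine ⟨P, fun y hy => ?_⟩
  have h2 : γ y ∈ ((P.mapSurjective hγ : Sylow 2 Y) : Subgroup Y) := mem_map_of_mem γ hy
  rw [hP] at h2
  exact h2

variable [Finite G]

/-- Every `β`-invariant `2`-subgroup is fixed elementwise. -/
theorem invariant_le_fixSub {β : MulAut G} {r : ℕ} [Fact r.Prime] (hβ : β ^ r = 1)
    (hr : r.Coprime (Nat.card G)) {τ : G} (hτ : orderOf τ = 2)
    (hC : centralizer ({τ} : Set G) ≤ fixSub β) (T : Subgroup G) (hT : IsPGroup 2 T)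
    (hTβ : ∀ x ∈ T, β x ∈ T) : T ≤ fixSub β := by
  haveI : Fact (Nat.Prime 2) := ⟨Nat.prime_two⟩
  have hτD : τ ∈ fixSub β := hC (mem_centralizer_singleton_iff.2 rfl)
  -- normalisers of fixed subgroups containing `τ`
  have hN : ∀ Q : Subgroup G, Q ≤ fixSub β → τ ∈ Q → normalizer (Q : Set G) ≤ fixSub β := by
    intro Q hQ hτQ g hg
    have h1 : β (g * τ * g⁻¹) = g * τ * g⁻¹ := hQ ((mem_normalizer_iff.1 hg τ).1 hτQ)
    rw [map_mul, map_mul, map_inv, mem_fixSub.1 hτD] at h1
    have hc : g⁻¹ * β g ∈ fixSub β := hC (mem_centralizer_singleton_iff.2 (by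
      calc g⁻¹ * β g * τ = g⁻¹ * (β g * τ * (β g)⁻¹) * β g := by group
        _ = τ * (g⁻¹ * β g) := by rw [h1]; group))
    have h2 := eq_one_of_shift hβ hr hc (mul_inv_cancel_left g (β g)).symm
    exact mem_fixSub.2 (inv_mul_eq_one.1 h2).symm
  -- a Sylow subgroup in the fixed subgroup
  obtain ⟨S, hSD, hτS⟩ : ∃ S : Sylow 2 G, (S : Subgroup G) ≤ fixSub β ∧ τ ∈ (S : Subgroup G) := by
    have hz : IsPGroup 2 (zpowers τ) := IsPGroup.of_card (n := 1) (by
      rw [Nat.card_zpowers, hτ, pow_one])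
    obtain ⟨Q, ⟨hQp, hτQ, hQD⟩, hmax⟩ := Set.exists_max_image
      {Q : Subgroup G | IsPGroup 2 Q ∧ τ ∈ Q ∧ Q ≤ fixSub β} (fun Q => Nat.card Q) (Set.toFinite _)
      ⟨zpowers τ, hz, mem_zpowers τ, zpowers_le.2 hτD⟩
    obtain ⟨S, hQS⟩ := hQp.exists_le_sylow
    rcases hQS.lt_or_eq with hlt | heq
    · exfalso
      have hne : Q.subgroupOf S < ⊤ := lt_top_iff_ne_top.2 fun h =>
        hlt.not_ge (subgroupOf_eq_top.1 h)
      haveI := S.2.isNilpotent
      have hlt' := Group.normalizerCondition_of_isNilpotent _ hne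
      obtain ⟨g, hg, hgQ⟩ := SetLike.exists_of_lt hlt'
      have hgN : (g : G) ∈ normalizer (Q : Set G) := by
        refine mem_normalizer_iff.2 fun x => ⟨fun hx => ?_, fun hx => ?_⟩
        · exact mem_subgroupOf.1 ((mem_normalizer_iff.1 hg ⟨x, hQS hx⟩).1 (mem_subgroupOf.2 hx))
        · have hx' : x ∈ (S : Subgroup G) := by
            have := mul_mem (mul_mem (inv_mem g.2) (hQS hx)) g.2
            simpa [mul_assoc] using this
          exact mem_subgroupOf.1 ((mem_normalizer_iff.1 hg ⟨x, hx'⟩).2 (mem_subgroupOf.2 hx))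
      have hle : Q ⊔ zpowers (g : G) ≤ fixSub β :=
        sup_le hQD (zpowers_le.2 (hN Q hQD hτQ hgN))
      have hb := hmax (Q ⊔ zpowers (g : G))
        ⟨S.2.to_le (sup_le hQS (zpowers_le.2 g.2)), mem_sup_left hτQ, hle⟩
      have he : Q = Q ⊔ zpowers (g : G) := eq_of_le_of_card_ge le_sup_left hb
      exact hgQ (mem_subgroupOf.2 (he ▸ mem_sup_right (mem_zpowers (g : G))))
    · exact ⟨S, heq ▸ hQD, heq ▸ hτQ⟩
  -- invariant Sylow subgroups
  have hsyl : ∀ P : Sylow 2 G, (∀ x ∈ (P : Subgroup G), β x ∈ (P : Subgroup G)) →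
      (P : Subgroup G) ≤ fixSub β := by
    intro P hP
    obtain ⟨g, hg⟩ := MulAction.exists_smul_eq G S P
    have hPeq : ∀ x, x ∈ (P : Subgroup G) ↔ g⁻¹ * x * g ∈ (S : Subgroup G) := fun x => by
      rw [← hg, Sylow.coe_subgroup_smul, Subgroup.mem_pointwise_smul_iff_inv_smul_mem]
      simp [MulAut.smul_def]
    have hgD : g ∈ fixSub β := by
      have hcN : g⁻¹ * β g ∈ normalizer ((S : Subgroup G) : Set G) := by
        have hle : ∀ x ∈ (S : Subgroup G), g⁻¹ * β g * x * (g⁻¹ * β g)⁻¹ ∈ (S : Subgroup G) := by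
          intro x hx
          have h1 := (hPeq _).1 (hP (g * x * g⁻¹) ((hPeq _).2 (by simpa [mul_assoc] using hx)))
          rw [map_mul, map_mul, map_inv, mem_fixSub.1 (hSD hx)] at h1
          convert h1 using 1
          group
        have hmap : (S : Subgroup G).map (MulAut.conj (g⁻¹ * β g)).toMonoidHom ≤ S := by
          rintro _ ⟨x, hx, rfl⟩
          exact hle x hx
        have heq := eq_of_le_of_card_ge hmap
          (card_map_of_injective (MulAut.conj _).injective).ge
        refine mem_normalizer_iff.2 fun x => ⟨hle x, fun hx => ?_⟩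
        rw [← heq] at hx
        obtain ⟨y, hy, hye⟩ := hx
        have : y = x := (MulAut.conj (g⁻¹ * β g)).injective hye
        exact this ▸ hy
      have h2 := eq_one_of_shift hβ hr (hN _ hSD hτS hcN) (mul_inv_cancel_left g (β g)).symm
      exact mem_fixSub.2 (inv_mul_eq_one.1 h2).symm
    intro x hx
    have h1 := hSD ((hPeq x).1 hx)
    have : x = g * (g⁻¹ * x * g) * g⁻¹ := by group
    rw [this]
    exact mul_mem (mul_mem hgD h1) (inv_mem hgD)
  -- enlarge
  induction hk : Nat.card G - Nat.card T using Nat.strong_induction_on generalizing T with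
  | _ k ih =>
  obtain ⟨P, hTP⟩ := hT.exists_le_sylow
  rcases hTP.lt_or_eq with hlt | rfl
  · set N := normalizer (T : Set G) with hNdef
    have hmapT : T.map β.toMonoidHom = T := by
      refine eq_of_le_of_card_ge ?_ (card_map_of_injective β.injective).ge
      rintro _ ⟨x, hx, rfl⟩
      exact hTβ x hx
    have hNβ : ∀ y ∈ N, β y ∈ N := by
      intro y hy
      refine mem_normalizer_iff.2 fun x => ?_
      obtain ⟨x', rfl⟩ := β.surjective x
      have hiff : ∀ z, β z ∈ T ↔ z ∈ T := fun z => ⟨fun h => by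
        rw [← hmapT] at h
        obtain ⟨w, hw, hwe⟩ := h
        exact β.injective hwe ▸ hw, hTβ z⟩
      rw [← map_inv, ← map_mul, ← map_mul, hiff, hiff]
      exact mem_normalizer_iff.1 hy x'
    obtain ⟨R, hR⟩ := exists_invariant_sylow hβ hr N hNβ
    set T' : Subgroup G := (R : Subgroup N).map N.subtype with hT'
    have hT'p : IsPGroup 2 T' := R.2.map _
    have hTT' : T < T' := by
      haveI : (T.subgroupOf N).Normal := normal_subgroupOf_of_le_normalizer le_rfl
      have h1 : T.subgroupOf N ≤ (R : Subgroup N) := by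
        exact IsPGroup.le_sylow_of_normal (N := T.subgroupOf N) hT.comap_subtype R
      refine lt_of_le_of_ne (fun x hx => ⟨⟨x, le_normalizer hx⟩, h1 (mem_subgroupOf.2 hx), rfl⟩)
        fun he => ?_
      -- `T` is properly contained in a `2`-subgroup of its normaliser
      haveI := P.2.isNilpotent
      obtain ⟨g, hg, hgT⟩ := SetLike.exists_of_lt (Group.normalizerCondition_of_isNilpotent
        (T.subgroupOf P) (lt_top_iff_ne_top.2 fun h => hlt.not_ge (subgroupOf_eq_top.1 h)))
      have hgN : (g : G) ∈ N := by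
        refine mem_normalizer_iff.2 fun x => ⟨fun hx => ?_, fun hx => ?_⟩
        · exact mem_subgroupOf.1 ((mem_normalizer_iff.1 hg ⟨x, hTP hx⟩).1 (mem_subgroupOf.2 hx))
        · have hx' : x ∈ (P : Subgroup G) := by
            have := mul_mem (mul_mem (inv_mem g.2) (hTP hx)) g.2
            simpa [mul_assoc] using this
          exact mem_subgroupOf.1 ((mem_normalizer_iff.1 hg ⟨x, hx'⟩).2 (mem_subgroupOf.2 hx))
      have hU : IsPGroup 2 ((T ⊔ zpowers (g : G)).subgroupOf N) :=
        (P.2.to_le (sup_le hTP (zpowers_le.2 g.2))).comap_subtype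
      obtain ⟨R', hR'⟩ := hU.exists_le_sylow
      have hcard : Nat.card (T ⊔ zpowers (g : G) : Subgroup G) ≤ Nat.card T := by
        rw [← Nat.card_congr (subgroupOfEquivOfLe (sup_le le_normalizer (zpowers_le.2 hgN) :
          T ⊔ zpowers (g : G) ≤ N)).toEquiv]
        calc _ ≤ Nat.card (R' : Subgroup N) := card_le_of_le hR'
          _ = Nat.card (R : Subgroup N) := Nat.card_congr (R'.equiv R).toEquiv
          _ = Nat.card T := by rw [he, hT', card_map_of_injective N.subtype_injective]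
      exact hgT (mem_subgroupOf.2 ((eq_of_le_of_card_ge le_sup_left hcard) ▸
        mem_sup_right (mem_zpowers (g : G))))
    have hcard : Nat.card T < Nat.card T' := by
      refine lt_of_le_of_ne (card_le_of_le hTT'.le) fun h => hTT'.ne ?_
      exact eq_of_le_of_card_ge hTT'.le h.ge
    refine hTT'.le.trans (ih _ ?_ T' hT'p ?_ rfl)
    · have := card_le_card_group T'
      omega
    · rintro _ ⟨y, hy, rfl⟩
      exact ⟨_, hR y hy, rfl⟩
  · exact hsyl P hTβ

/-- The count: every conjugate of a product of two conjugates of `τ` in `D` lies in `D`. -/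
theorem conj_mul_mem_fixSub {β : MulAut G} {r : ℕ} [Fact r.Prime] (hβ : β ^ r = 1)
    (hr : r.Coprime (Nat.card G)) {τ : G} (hτ : orderOf τ = 2)
    (hC : centralizer ({τ} : Set G) ≤ fixSub β) {a b : G}
    (ha : ∃ g, g * τ * g⁻¹ = a) (haD : a ∈ fixSub β)
    (hb : ∃ g, g * τ * g⁻¹ = b) (hbD : b ∈ fixSub β) (g : G) :
    g * (a * b) * g⁻¹ ∈ fixSub β := by
  classical
  haveI : Fact (Nat.Prime 2) := ⟨Nat.prime_two⟩
  haveI := Fintype.ofFinite G
  set D := fixSub β with hD
  set C := centralizer ({τ} : Set G) with hCdef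
  have hττ : τ * τ = 1 := by
    have := pow_orderOf_eq_one τ
    rwa [hτ, sq] at this
  let cl : G → G := fun x => x * τ * x⁻¹
  set X : Finset G := Finset.univ.image cl with hX
  have hmemX : ∀ t, t ∈ X ↔ ∃ x, x * τ * x⁻¹ = t := by simp [hX, cl]
  have hXsq : ∀ t ∈ X, t * t = 1 := by
    intro t ht
    obtain ⟨x, rfl⟩ := (hmemX t).1 ht
    calc x * τ * x⁻¹ * (x * τ * x⁻¹) = x * (τ * τ) * x⁻¹ := by group
      _ = 1 := by rw [hττ]; group
  have hXinv : ∀ t ∈ X, t⁻¹ = t := fun t ht => inv_eq_of_mul_eq_one_right (hXsq t ht)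
  have hXconj : ∀ t ∈ X, ∀ c : G, c * t * c⁻¹ ∈ X := by
    intro t ht c
    obtain ⟨x, rfl⟩ := (hmemX t).1 ht
    exact (hmemX _).2 ⟨c * x, by group⟩
  -- `X ∩ D` is a single `D`-class
  have hclass : ∀ x, cl x ∈ D → x ∈ D := by
    intro x hx
    have hτD : τ ∈ D := hC (mem_centralizer_singleton_iff.2 rfl)
    have h1 : β (x * τ * x⁻¹) = x * τ * x⁻¹ := mem_fixSub.1 hx
    rw [map_mul, map_mul, map_inv, mem_fixSub.1 hτD] at h1
    have hc : x⁻¹ * β x ∈ D := hC (mem_centralizer_singleton_iff.2 (by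
      calc x⁻¹ * β x * τ = x⁻¹ * (β x * τ * (β x)⁻¹) * β x := by group
        _ = τ * (x⁻¹ * β x) := by rw [h1]; group))
    have h2 := eq_one_of_shift hβ hr hc (mul_inv_cancel_left x (β x)).symm
    exact mem_fixSub.2 (inv_mul_eq_one.1 h2).symm
  have hτD : τ ∈ D := hC (mem_centralizer_singleton_iff.2 rfl)
  set Din : Finset G := X.filter (· ∈ D) with hDin
  set Out : Finset G := X.filter (· ∉ D) with hOut
  set n := D.index with hn
  set m := Din.card with hm
  -- class sizes
  have hfib : ∀ H : Subgroup G, C ≤ H →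
      (((Finset.univ : Finset G).filter (· ∈ H)).image cl).card * Nat.card C = Nat.card H := by
    intro H hCH
    set s := (Finset.univ : Finset G).filter (· ∈ H) with hs
    have hcs : Nat.card H = s.card := by
      rw [Nat.card_eq_fintype_card]
      exact Fintype.card_of_subtype s fun x => by simp [hs]
    rw [hcs, Finset.card_eq_sum_card_fiberwise (s := s) (t := s.image cl) (f := cl)
        (fun x hx => Finset.mem_image_of_mem cl hx),
      Finset.sum_const_nat (m := Nat.card C)]
    intro t ht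
    obtain ⟨x, hx, rfl⟩ := Finset.mem_image.1 ht
    have hxH : x ∈ H := (Finset.mem_filter.1 hx).2
    rw [Nat.card_eq_fintype_card,
      Fintype.card_of_subtype (p := fun c => c ∈ C) ((Finset.univ : Finset G).filter (· ∈ C))
        (fun c => by simp)]
    refine Finset.card_nbij' (x⁻¹ * ·) (x * ·) ?_ ?_ ?_ ?_
    · intro y hy
      refine Finset.mem_filter.2 ⟨Finset.mem_univ _, mem_centralizer_singleton_iff.2 ?_⟩
      have hy' : y * τ * y⁻¹ = x * τ * x⁻¹ := (Finset.mem_filter.1 hy).2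
      calc x⁻¹ * y * τ = x⁻¹ * (y * τ * y⁻¹) * y := by group
        _ = τ * (x⁻¹ * y) := by rw [hy']; group
    · intro c hc
      have hc' : c ∈ C := (Finset.mem_filter.1 hc).2
      refine Finset.mem_filter.2 ⟨Finset.mem_filter.2 ⟨Finset.mem_univ _,
        H.mul_mem hxH (hCH hc')⟩, ?_⟩
      show x * c * τ * (x * c)⁻¹ = x * τ * x⁻¹
      rw [mul_assoc x c τ, mem_centralizer_singleton_iff.1 hc']
      group
    · exact fun y _ => mul_inv_cancel_left x y
    · exact fun y _ => inv_mul_cancel_left x y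
  have hXcard : X.card = n * m := by
    have h1 := hfib ⊤ le_top
    have h2 := hfib D hC
    rw [show ((Finset.univ : Finset G).filter (· ∈ (⊤ : Subgroup G))).image cl = X by simp [hX],
      card_top] at h1
    rw [show ((Finset.univ : Finset G).filter (· ∈ D)).image cl = Din by
      ext t
      simp only [hDin, Finset.mem_image, Finset.mem_filter, Finset.mem_univ, true_and, hmemX]
      exact ⟨fun ⟨x, hx, he⟩ => ⟨⟨x, he⟩, he ▸ D.mul_mem (D.mul_mem hx hτD) (D.inv_mem hx)⟩,
        fun ⟨⟨x, he⟩, ht⟩ => ⟨x, hclass x (show x * τ * x⁻¹ ∈ D by rw [he]; exact ht), he⟩⟩]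
      at h2
    have h3 := D.index_mul_card
    rw [← h2, ← h1] at h3
    refine Nat.eq_of_mul_eq_mul_right (Nat.card_pos (α := C)) ?_
    rw [← h3, mul_assoc]
  have hOutcard : Out.card = (n - 1) * m := by
    have h := Finset.card_filter_add_card_filter_not (s := X) (· ∈ D)
    rw [← hDin, ← hOut, hXcard, ← hm] at h
    rw [Nat.sub_one_mul]
    omega
  -- Cauchy–Schwarz on the cosets
  set P : Finset (G × G) := (Out ×ˢ Out).filter (fun q => q.1 * q.2 ∈ D) with hP
  have hlow : ((n - 1) * m) ^ 2 ≤ (n - 1) * P.card := by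
    set s : Finset (G ⧸ D) := Finset.univ.erase ((1 : G) : G ⧸ D) with hs
    let k : G ⧸ D → ℕ := fun q => (Out.filter fun t : G => (t : G ⧸ D) = q).card
    have hscard : s.card = n - 1 := by
      rw [hs, Finset.card_erase_of_mem (Finset.mem_univ _), Finset.card_univ,
        ← Nat.card_eq_fintype_card, hn, index_eq_card]
    have hmaps : ∀ t ∈ Out, (t : G ⧸ D) ∈ s := fun t ht => by
      refine Finset.mem_erase.2 ⟨fun h => (Finset.mem_filter.1 ht).2 ?_, Finset.mem_univ _⟩
      have := QuotientGroup.eq.1 h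
      rw [mul_one] at this
      exact inv_mem_iff.1 this
    have hsum : Out.card = ∑ q ∈ s, k q := Finset.card_eq_sum_card_fiberwise hmaps
    have hsq : P.card = ∑ q ∈ s, k q ^ 2 := by
      rw [Finset.card_eq_sum_card_fiberwise (f := fun x : G × G => (x.1 : G ⧸ D)) (t := s)
        (fun x hx => hmaps _ (Finset.mem_product.1 (Finset.mem_filter.1 hx).1).1)]
      refine Finset.sum_congr rfl fun q _ => ?_
      rw [sq, ← Finset.card_product]
      refine congrArg Finset.card (Finset.ext fun ⟨t, t'⟩ => ?_)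
      simp only [hP, Finset.mem_filter, Finset.mem_product]
      constructor
      · rintro ⟨⟨⟨ht, ht'⟩, hd⟩, rfl⟩
        refine ⟨⟨ht, rfl⟩, ht', (QuotientGroup.eq.2 ?_).symm⟩
        rwa [hXinv t (Finset.mem_filter.1 ht).1]
      · rintro ⟨⟨ht, rfl⟩, ht', he⟩
        refine ⟨⟨⟨ht, ht'⟩, ?_⟩, rfl⟩
        have := QuotientGroup.eq.1 he.symm
        rwa [hXinv t (Finset.mem_filter.1 ht).1] at this
    have := sq_sum_le_card_mul_sum_sq (s := s) (f := k)
    rwa [← hsum, ← hsq, hOutcard, hscard] at this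
  -- the pairs, sorted by their product
  set Dfin := (Finset.univ : Finset G).filter (· ∈ D) with hDfin
  let A : G → Finset G := fun j => Out.filter fun t => t * j ∈ X
  let B : G → Finset G := fun j => Din.filter fun t => t * j ∈ X
  have hPle : P.card ≤ ∑ j ∈ Dfin, (A j).card := by
    rw [← Finset.card_sigma]
    refine Finset.card_le_card_of_injOn (fun q => ⟨q.1 * q.2, q.1⟩) (fun q hq => ?_) ?_
    · obtain ⟨h1, h2⟩ := Finset.mem_filter.1 hq
      obtain ⟨h3, h4⟩ := Finset.mem_product.1 h1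
      refine Finset.mem_sigma.2 ⟨Finset.mem_filter.2 ⟨Finset.mem_univ _, h2⟩,
        Finset.mem_filter.2 ⟨h3, ?_⟩⟩
      show q.1 * (q.1 * q.2) ∈ X
      rw [← mul_assoc, hXsq _ (Finset.mem_filter.1 h3).1, one_mul]
      exact (Finset.mem_filter.1 h4).1
    · intro q _ q' _ h
      obtain ⟨h1, h2⟩ := Sigma.mk.inj_iff.1 h
      have h3 : q.1 = q'.1 := eq_of_heq h2
      exact Prod.ext h3 (by rwa [h3, mul_right_inj] at h1)
  have hBsum : ∑ j ∈ Dfin, (B j).card = m * m := by
    rw [← Finset.card_sigma, ← Finset.card_product]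
    refine Finset.card_nbij' (fun x => (x.2, x.2 * x.1)) (fun q => ⟨q.1 * q.2, q.1⟩) ?_ ?_ ?_ ?_
    · rintro ⟨j, t⟩ hx
      obtain ⟨hj, ht⟩ := Finset.mem_sigma.1 hx
      obtain ⟨ht1, ht2⟩ := Finset.mem_filter.1 ht
      exact Finset.mem_product.2 ⟨ht1, Finset.mem_filter.2
        ⟨ht2, D.mul_mem (Finset.mem_filter.1 ht1).2 (Finset.mem_filter.1 hj).2⟩⟩
    · rintro ⟨t, t'⟩ hq
      obtain ⟨h1, h2⟩ := Finset.mem_product.1 hq
      refine Finset.mem_sigma.2 ⟨Finset.mem_filter.2 ⟨Finset.mem_univ _,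
        D.mul_mem (Finset.mem_filter.1 h1).2 (Finset.mem_filter.1 h2).2⟩,
        Finset.mem_filter.2 ⟨h1, ?_⟩⟩
      show t * (t * t') ∈ X
      rw [← mul_assoc, hXsq _ (Finset.mem_filter.1 h1).1, one_mul]
      exact (Finset.mem_filter.1 h2).1
    · rintro ⟨j, t⟩ hx
      have ht := (Finset.mem_filter.1 (Finset.mem_sigma.1 hx).2).1
      simp [← mul_assoc, hXsq _ (Finset.mem_filter.1 ht).1]
    · rintro ⟨t, t'⟩ hq
      have ht := (Finset.mem_product.1 hq).1
      simp [← mul_assoc, hXsq _ (Finset.mem_filter.1 ht).1]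
  let idx : G → ℕ := fun j => D.relIndex (centralizer ({j} : Set G))
  have hrel : ∀ K : Subgroup G, D.relIndex K ≤ n ∧
      (D.relIndex K = n → ∀ x, ∃ c ∈ K, ∃ d ∈ D, x = c * d) := by
    intro K
    let f : K ⧸ D.subgroupOf K → G ⧸ D := Quotient.map' (fun x => (x : G)) fun x y h => by
      rw [QuotientGroup.leftRel_apply] at h ⊢
      exact h
    have hf : Function.Injective f := by
      intro x y h
      induction x using QuotientGroup.induction_on with | _ x =>
      induction y using QuotientGroup.induction_on with | _ y =>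
      exact QuotientGroup.eq.2 (mem_subgroupOf.2 (QuotientGroup.eq.1 h))
    refine ⟨?_, fun he x => ?_⟩
    · rw [relIndex, index_eq_card, hn, index_eq_card]
      exact Nat.card_le_card_of_injective f hf
    · obtain ⟨q, hq⟩ := (hf.bijective_of_nat_card_le (by
        rw [← index_eq_card D, ← hn, ← he]; rfl)).2 (x : G ⧸ D)
      induction q using QuotientGroup.induction_on with | _ c =>
      exact ⟨c, c.2, (c : G)⁻¹ * x, QuotientGroup.eq.1 hq, (mul_inv_cancel_left _ _).symm⟩
  have hAB : ∀ j ∈ Dfin, (A j).card + (B j).card ≤ idx j * (B j).card := by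
    intro j hj
    have hjD : j ∈ D := (Finset.mem_filter.1 hj).2
    set K := centralizer ({j} : Set G) with hK
    have hdisj : Disjoint (A j) (B j) := Finset.disjoint_left.2 fun t h1 h2 =>
      (Finset.mem_filter.1 (Finset.mem_filter.1 h1).1).2
        (Finset.mem_filter.1 (Finset.mem_filter.1 h2).1).2
    rw [← Finset.card_union_of_disjoint hdisj,
      show idx j = Nat.card (K ⧸ D.subgroupOf K) from index_eq_card _, Nat.card_eq_fintype_card,
      ← Finset.card_univ, ← Finset.card_product]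
    refine (Finset.card_le_card ?_).trans (Finset.card_image_le
      (f := fun q : (K ⧸ D.subgroupOf K) × G => (q.1.out : G) * q.2 * (q.1.out : G)⁻¹))
    intro t ht
    obtain ⟨htX, htj⟩ : t ∈ X ∧ t * j ∈ X := by
      rcases Finset.mem_union.1 ht with h | h <;>
        exact ⟨(Finset.mem_filter.1 (Finset.mem_filter.1 h).1).1, (Finset.mem_filter.1 h).2⟩
    have htinv : t * j * t⁻¹ = j⁻¹ := by
      rw [hXinv t htX]
      exact eq_inv_of_mul_eq_one_left (by rw [mul_assoc (t * j) t j]; exact hXsq _ htj)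
    -- the subgroup of elements fixing or inverting `j`
    let Y : Subgroup G :=
      { carrier := {y | y * j * y⁻¹ = j ∨ y * j * y⁻¹ = j⁻¹}
        one_mem' := Or.inl (by group)
        mul_mem' := by
          intro y z hy hz
          have e : y * z * j * (y * z)⁻¹ = y * (z * j * z⁻¹) * y⁻¹ := by group
          have e' : y * j⁻¹ * y⁻¹ = (y * j * y⁻¹)⁻¹ := by group
          rcases hy with hy | hy <;> rcases hz with hz | hz <;>
            simp only [Set.mem_setOf_eq, e, hz, e', hy, inv_inv, true_or, or_true]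
        inv_mem' := by
          intro y hy
          rcases hy with hy | hy
          · left
            calc y⁻¹ * j * y⁻¹⁻¹ = y⁻¹ * (y * j * y⁻¹) * y := by rw [hy]; group
              _ = j := by group
          · right
            calc y⁻¹ * j * y⁻¹⁻¹ = y⁻¹ * (y * j * y⁻¹)⁻¹ * y := by rw [hy]; group
              _ = j⁻¹ := by group }
    have hYβ : ∀ y ∈ Y, β y ∈ Y := by
      intro y hy
      rcases hy with hy | hy
      · left
        have := congrArg β hy
        rwa [map_mul, map_mul, map_inv, mem_fixSub.1 hjD] at this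
      · right
        have := congrArg β hy
        rwa [map_mul, map_mul, map_inv, map_inv, mem_fixSub.1 hjD] at this
    obtain ⟨R, hR⟩ := exists_invariant_sylow hβ hr Y hYβ
    have hRD : (R : Subgroup Y).map Y.subtype ≤ D := by
      refine invariant_le_fixSub hβ hr hτ hC _ (R.2.map _) ?_
      rintro _ ⟨y, hy, rfl⟩
      exact ⟨_, hR y hy, rfl⟩
    have htY : t ∈ Y := Or.inr htinv
    have htp : IsPGroup 2 (zpowers (⟨t, htY⟩ : Y)) := by
      have h2 : (⟨t, htY⟩ : Y) ^ 2 = 1 := Subtype.ext (by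
        rw [SubgroupClass.coe_pow, sq]; exact hXsq t htX)
      rintro ⟨z, i, rfl⟩
      refine ⟨1, Subtype.ext ?_⟩
      show ((⟨t, htY⟩ : Y) ^ i) ^ (2 ^ 1) = 1
      rw [pow_one, ← zpow_natCast, ← zpow_mul, mul_comm, zpow_mul, zpow_natCast, h2, one_zpow]
    obtain ⟨R', hR'⟩ := htp.exists_le_sylow
    obtain ⟨y, hy⟩ := MulAction.exists_smul_eq Y R' R
    have hyR : y * ⟨t, htY⟩ * y⁻¹ ∈ (R : Subgroup Y) := by
      rw [← hy, Sylow.coe_subgroup_smul, Subgroup.mem_pointwise_smul_iff_inv_smul_mem]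
      simpa [MulAut.smul_def, mul_assoc] using hR' (mem_zpowers _)
    have htD : (y : G) * t * (y : G)⁻¹ ∈ D := hRD ⟨_, hyR, rfl⟩
    obtain ⟨c, hc, hct⟩ : ∃ c : G, c * j * c⁻¹ = j ∧ c * t * c⁻¹ = (y : G) * t * (y : G)⁻¹ := by
      rcases y.2 with hyj | hyj
      · exact ⟨y, hyj, rfl⟩
      · refine ⟨(y : G) * t, ?_, by group⟩
        calc (y : G) * t * j * ((y : G) * t)⁻¹ = (y : G) * (t * j * t⁻¹) * (y : G)⁻¹ := by group
          _ = ((y : G) * j * (y : G)⁻¹)⁻¹ := by rw [htinv]; group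
          _ = j := by rw [hyj, inv_inv]
    have hcK : c⁻¹ ∈ K := inv_mem (mem_centralizer_singleton_iff.2 (mul_inv_eq_iff_eq_mul.1 hc))
    set q : K ⧸ D.subgroupOf K := ((⟨c⁻¹, hcK⟩ : K) : K ⧸ D.subgroupOf K) with hq
    set d : K := q.out⁻¹ * ⟨c⁻¹, hcK⟩ with hd
    have hdD : (d : G) ∈ D := mem_subgroupOf.1 (QuotientGroup.eq.1 (QuotientGroup.out_eq' q))
    have hdj : (d : G) * j * (d : G)⁻¹ = j :=
      mul_inv_eq_iff_eq_mul.2 (mem_centralizer_singleton_iff.1 d.2)
    refine Finset.mem_image.2 ⟨(q, (d : G) * (c * t * c⁻¹) * (d : G)⁻¹),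
      Finset.mem_product.2 ⟨Finset.mem_univ _, Finset.mem_filter.2 ⟨Finset.mem_filter.2
        ⟨hXconj _ (hXconj t htX c) d, ?_⟩, ?_⟩⟩, ?_⟩
    · rw [hct]
      exact D.mul_mem (D.mul_mem hdD htD) (D.inv_mem hdD)
    · have e : (d : G) * (c * t * c⁻¹) * (d : G)⁻¹ * j =
          (d : G) * (c * (t * j) * c⁻¹) * (d : G)⁻¹ := by
        calc _ = (d : G) * (c * t * c⁻¹) * (d : G)⁻¹ * ((d : G) * (c * j * c⁻¹) * (d : G)⁻¹) := by
              rw [hc, hdj]
          _ = _ := by group
      rw [e]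
      exact hXconj _ (hXconj _ htj c) d
    · show (q.out : G) * ((d : G) * (c * t * c⁻¹) * (d : G)⁻¹) * (q.out : G)⁻¹ = t
      have hdv : (d : G) = (q.out : G)⁻¹ * c⁻¹ := rfl
      rw [hdv]
      group
  -- conclusion
  have ha' : a ∈ Din := Finset.mem_filter.2 ⟨(hmemX a).2 ha, haD⟩
  have hb' : b ∈ Din := Finset.mem_filter.2 ⟨(hmemX b).2 hb, hbD⟩
  set j₀ := a * b with hj₀
  have hj₀mem : j₀ ∈ Dfin := Finset.mem_filter.2 ⟨Finset.mem_univ _, D.mul_mem haD hbD⟩
  have hBpos : 0 < (B j₀).card := Finset.card_pos.2 ⟨a, Finset.mem_filter.2 ⟨ha', by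
    rw [hj₀, ← mul_assoc, hXsq a ((hmemX a).2 ha), one_mul]; exact (hmemX b).2 hb⟩⟩
  have hidx : idx j₀ = n := by
    refine le_antisymm (hrel _).1 ?_
    by_contra hlt
    push Not at hlt
    have h1 : ∑ j ∈ Dfin, ((A j).card + (B j).card) < ∑ j ∈ Dfin, n * (B j).card :=
      Finset.sum_lt_sum (fun j hj => (hAB j hj).trans (Nat.mul_le_mul_right _ (hrel _).1))
        ⟨j₀, hj₀mem, (hAB _ hj₀mem).trans_lt (Nat.mul_lt_mul_of_pos_right hlt hBpos)⟩
    rw [Finset.sum_add_distrib, hBsum, ← Finset.mul_sum, hBsum] at h1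
    have h2 : P.card + m * m < n * (m * m) := lt_of_le_of_lt (by omega) h1
    obtain ⟨n', hn'⟩ : ∃ n', n = n' + 1 := ⟨n - 1, by
      have : n ≠ 0 := by rw [hn]; exact index_ne_zero_of_finite
      omega⟩
    rw [hn', Nat.add_mul, one_mul] at h2
    rw [hn', Nat.add_sub_cancel] at hlow
    have h3 : P.card < n' * (m * m) := by omega
    rcases Nat.eq_zero_or_pos n' with h0 | h0
    · rw [h0, zero_mul] at h3; omega
    · have h4 := (Nat.mul_lt_mul_left h0).2 h3
      rw [mul_pow, sq, sq, mul_assoc] at hlow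
      omega
  obtain ⟨c, hc, d, hd, hcd⟩ := (hrel (centralizer ({j₀} : Set G))).2 hidx g⁻¹
  have hg : g = d⁻¹ * c⁻¹ := by
    rw [← inv_inv g, hcd, mul_inv_rev]
  rw [hg]
  have : d⁻¹ * c⁻¹ * j₀ * (d⁻¹ * c⁻¹)⁻¹ = d⁻¹ * j₀ * d := by
    calc d⁻¹ * c⁻¹ * j₀ * (d⁻¹ * c⁻¹)⁻¹ = d⁻¹ * (c⁻¹ * (j₀ * c)) * d := by group
      _ = d⁻¹ * j₀ * d := by
        rw [← mem_centralizer_singleton_iff.1 hc, inv_mul_cancel_left]
  rw [this]
  exact D.mul_mem (D.mul_mem (D.inv_mem hd) (D.mul_mem haD hbD)) hd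

/-- A coprime automorphism of a simple group fixing the centralizer of an involution is trivial. -/
theorem eq_one_of_fix_centralizer [IsSimpleGroup G] (hG : ¬ IsMulCommutative G) {τ : G}
    (hτ : orderOf τ = 2) {α : MulAut G} (hcop : (orderOf α).Coprime (Nat.card G))
    (hfix : ∀ c ∈ centralizer ({τ} : Set G), α c = c) : α = 1 := by
  classical
  by_contra hα
  haveI : Finite (MulAut G) :=
    Finite.of_injective (fun f => (f : G → G)) DFunLike.coe_injective
  obtain ⟨r, hr, hrd⟩ := Nat.exists_prime_and_dvd (fun h => hα (orderOf_eq_one_iff.1 h))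
  haveI : Fact r.Prime := ⟨hr⟩
  set β := α ^ (orderOf α / r) with hβdef
  have hαpos : 0 < orderOf α := orderOf_pos α
  have hβord : orderOf β = r := by
    rw [hβdef, orderOf_pow, Nat.gcd_eq_right (Nat.div_dvd_of_dvd hrd),
      Nat.div_div_self hrd hαpos.ne']
  have hβ : β ^ r = 1 := hβord ▸ pow_orderOf_eq_one β
  have hrG : r.Coprime (Nat.card G) := hcop.coprime_dvd_left hrd
  have hC : centralizer ({τ} : Set G) ≤ fixSub β := fun c hc => mem_fixSub.2 (by
    rw [hβdef, pow_apply]
    exact Function.iterate_fixed (hfix c hc) _)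
  have hτD : τ ∈ fixSub β := hC (mem_centralizer_singleton_iff.2 rfl)
  have hDne : fixSub β ≠ ⊤ := by
    intro h
    have : β = 1 := by
      ext x
      exact mem_fixSub.1 (h ▸ mem_top x)
    rw [this, orderOf_one] at hβord
    exact hr.ne_one hβord.symm
  have huniq : ∀ g : G, g * τ * g⁻¹ ∈ fixSub β → g * τ * g⁻¹ = τ := by
    intro g hg
    have hall := fun x => conj_mul_mem_fixSub hβ hrG hτ hC ⟨g, rfl⟩ hg
      ⟨1, show (1 : G) * τ * 1⁻¹ = τ by group⟩ hτD x
    have hle : normalClosure ({g * τ * g⁻¹ * τ} : Set G) ≤ fixSub β := by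
      rw [normalClosure, closure_le]
      intro y hy
      obtain ⟨z, hz, hzy⟩ := Group.mem_conjugatesOfSet_iff.1 hy
      rw [Set.mem_singleton_iff] at hz
      subst hz
      obtain ⟨x, rfl⟩ := isConj_iff.1 hzy
      exact hall x
    rcases IsSimpleGroup.eq_bot_or_eq_top_of_normal
      (normalClosure ({g * τ * g⁻¹ * τ} : Set G)) inferInstance with h | h
    · have h1 : g * τ * g⁻¹ * τ = 1 :=
        mem_bot.1 (h ▸ subset_normalClosure (Set.mem_singleton _))
      rw [mul_eq_one_iff_eq_inv] at h1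
      rw [h1]
      exact inv_eq_of_mul_eq_one_right (by
        have := pow_orderOf_eq_one τ
        rwa [hτ, sq] at this)
    · exact absurd (top_le_iff.1 (h ▸ hle)) hDne
  have hiso : Cfsg.IsIsolatedInvolution τ :=
    ⟨hτ, fun g hg => huniq g (hC (mem_centralizer_singleton_iff.2 hg.eq.symm))⟩
  rcases IsSimpleGroup.eq_bot_or_eq_top_of_normal (Cfsg.oddCore G)
    (by unfold Cfsg.oddCore; infer_instance) with hO | hO
  · have hcen : τ ∈ center G := ZStar.mem_center_of_forall_commutator fun g =>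
      mem_bot.1 (hO ▸ ZStar.zStar G τ hiso g)
    rcases IsSimpleGroup.eq_bot_or_eq_top_of_normal (center G) inferInstance with hZ | hZ
    · rw [hZ, mem_bot] at hcen
      rw [hcen, orderOf_one] at hτ
      omega
    · exact hG (center_eq_top_iff.1 hZ)
  · exact ZStar.eq_one_of_mem_oddCore_two (hO ▸ mem_top τ) hτ

end Cfsg.Agent.Lib.CoprimeFix
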